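import Mathlib.CategoryTheory.Galois.Topology
import Mathlib.CategoryTheory.Action.Limits

/-!
# Automorphisms of functors to finite sets: density criterion
-/

set_option autoImplicit false
universe w v u t

open CategoryTheory CategoryTheory.PreGaloisCategory

namespace AutForgetLib

variable {C : Type u} [Category.{v} C] {F : C ⥤ FintypeCat.{w}}

theorem continuous_to_aut {T : Type t} [TopologicalSpace T] (f : T → Aut F)
    (h : ∀ (X : C) (x y : F.obj X), IsOpen {t | (f t).hom.app X x = y}) : Continuous f := by
  rw [continuous_induced_rng]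
  refine continuous_pi fun X => continuous_discrete_rng.2 fun a => ?_
  have : (fun t => (autEmbedding F ∘ f) t X) ⁻¹' {a} = ⋂ x : F.obj X, {t | (f t).hom.app X x = a.hom x} := by
    ext t
    simp only [Set.mem_preimage, Function.comp_apply, Set.mem_singleton_iff, Set.mem_iInter, Set.mem_setOf_eq]
    constructor
    · rintro h x
      rw [← h]; rfl
    · intro h
      exact Iso.ext (FintypeCat.hom_ext _ _ h)
  rw [this]
  exact isOpen_iInter_of_finite fun x => h X x _

theorem continuous_app (X : C) (x : F.obj X) : Continuous fun σ : Aut F => σ.hom.app X x := by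
  have h1 : Continuous fun σ : Aut F => autEmbedding F σ X :=
    (continuous_apply X).comp (autEmbedding_isClosedEmbedding F).continuous
  exact (continuous_of_discreteTopology (f := fun a : Aut (F.obj X) => a.hom x)).comp h1

/-- The orbit trick: density of a group acting on fibres. -/
theorem denseRange {T : Type t} (f : T → Aut F)
    (h : ∀ (σ : Aut F) (I : Finset C), ∃ t : T, ∀ X ∈ I, ∀ x : F.obj X, (f t).hom.app X x = σ.hom.app X x) :
    DenseRange f := by
  intro σ
  rw [mem_closure_iff]
  intro U hU hσ
  obtain ⟨V, hV, rfl⟩ := isOpen_induced_iff.1 hU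
  obtain ⟨I, W, hW, hIW⟩ := isOpen_pi_iff.1 hV _ hσ
  obtain ⟨t, ht⟩ := h σ I
  refine ⟨f t, hIW fun X hX => ?_, t, rfl⟩
  have : autEmbedding F (f t) X = autEmbedding F σ X :=
    Iso.ext (FintypeCat.hom_ext _ _ (ht X hX))
  rw [this]
  exact (hW X hX).2

end AutForgetLib
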